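import Cfsg.Agent.Lib.SL3Pres.Matrices

/-!
# A presentation of `SL₃` with four generators and fourteen relations
-/

set_option autoImplicit false
set_option linter.unusedSectionVars false

namespace Cfsg.Agent.SL3Pres

open Polynomial Cfsg.Agent.SL2Pres
open scoped commutatorElement

variable {p : ℕ} [Fact p.Prime] {F : Type*} [Field F] [Fintype F] [Algebra (ZMod p) F]

/-- The cube of a generator lies in no proper subfield unless there are four elements. -/
theorem cube_gen_ne {d : ℕ} (hd : Fintype.card F = p ^ d) (h4 : Fintype.card F ≠ 4) {ζ : F} (h0 : ζ ≠ 0)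
    (ho : orderOf ζ = Fintype.card F - 1) :
    ∀ e, 1 ≤ e → 2 * e ≤ d → (ζ ^ 3) ^ (p ^ e) ≠ ζ ^ 3 := by
  intro e he hed h
  have hp := (Fact.out : p.Prime).two_le
  obtain ⟨s, hs⟩ : ∃ s, p ^ e = s + 1 := ⟨p ^ e - 1, by have := Nat.one_le_pow e p (by omega); omega⟩
  rw [hs, pow_succ, mul_eq_right₀ (pow_ne_zero 3 h0), ← pow_mul, ← orderOf_dvd_iff_pow_eq_one, ho] at h
  have h1 : p ^ (2 * e) ≤ p ^ d := Nat.pow_le_pow_right (by omega) hed
  rw [two_mul, pow_add, hs, ← hd] at h1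
  have h2 : 2 ≤ p ^ e := le_trans hp (Nat.le_self_pow (by omega) p)
  have h3 := Nat.le_of_dvd (by omega) h
  have h5 : s = 1 := by
    by_contra hne
    have : 2 ≤ s := by omega
    have hq : Fintype.card F ≤ 3 * s + 1 := by omega
    nlinarith
  subst h5
  have h6 := Nat.le_of_dvd (by omega) h
  omega

theorem exists_dat {d : ℕ} (hd : Fintype.card F = p ^ d) :
    ∃ D : Dat p F, D.ns = [0] ∨ D.ns.length ≤ 3 := by
  classical
  obtain ⟨ζ, h0, ho, hgen⟩ := exists_gen (F := F)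
  have hfr : Module.finrank (ZMod p) F = d := by
    have h := Module.card_eq_pow_finrank (K := ZMod p) (V := F)
    rw [ZMod.card, hd] at h
    exact (Nat.pow_right_injective (Fact.out : p.Prime).two_le h).symm
  have hint := Algebra.IsIntegral.isIntegral (R := ZMod p) ζ
  obtain ⟨k, hk⟩ := hgen (-1) (neg_ne_zero.2 one_ne_zero)
  obtain ⟨j, hj⟩ : ∃ j : ℕ, d ≤ 2 ∨ ζ ^ j = 1 + ζ := by
    by_cases h2 : d ≤ 2
    · exact ⟨0, Or.inl h2⟩
    have hne : 1 + ζ ≠ 0 := fun h => by
      have hz : ζ ^ 2 = 1 := by rw [eq_neg_of_add_eq_zero_right h]; ring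
      rw [← orderOf_dvd_iff_pow_eq_one, ho, hd] at hz
      have h8 : 2 ^ 3 ≤ p ^ d :=
        (Nat.pow_le_pow_right two_pos (by omega)).trans (Nat.pow_le_pow_left (Fact.out : p.Prime).two_le d)
      have := Nat.le_of_dvd two_pos hz
      omega
    obtain ⟨j, hj⟩ := hgen _ hne
    exact ⟨j, Or.inr hj⟩
  have hsurj : ∀ t : F, ∃ f : (ZMod p)[X], aeval ζ f = t := fun t => by
    rcases eq_or_ne t 0 with rfl | ht
    · exact ⟨0, map_zero _⟩
    · obtain ⟨n, rfl⟩ := hgen t ht
      exact ⟨X ^ n, by simp⟩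
  obtain ⟨ns, hns, hlen⟩ : ∃ ns : List ℕ,
      ((∀ t : F, t ≠ 0 → ∃ n : ℕ, ∃ i ∈ ns, ζ ^ (3 * n + i) = t) ∨
        ns = [0] ∧ ∀ t : F, ∃ f : (ZMod p)[X], aeval (ζ ^ 3) f = t) ∧ (ns = [0] ∨ ns.length ≤ 3) := by
    by_cases h4 : Fintype.card F = 4
    · refine ⟨[0, 1, 2], Or.inl fun t ht => ?_, Or.inr (by simp)⟩
      obtain ⟨K, rfl⟩ := hgen t ht
      refine ⟨K / 3, K % 3, ?_, by rw [Nat.div_add_mod]⟩
      have := Nat.mod_lt K (show 3 > 0 by omega)
      simp only [List.mem_cons, List.not_mem_nil, or_false]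
      omega
    · exact ⟨[0], Or.inr ⟨rfl, surj_aeval hd _ (cube_gen_ne hd h4 h0 ho)⟩, Or.inl rfl⟩
  exact ⟨⟨ζ, h0, hgen, minpoly (ZMod p) ζ, minpoly.monic hint, minpoly.natDegree_pos hint, minpoly.aeval _ _,
    fun f hf => minpoly.dvd _ _ hf, hsurj, k, hk, j,
    hj.imp_left fun h => (minpoly.natDegree_le ζ).trans (hfr.le.trans h), ns, hns⟩, hlen⟩

theorem present {d : ℕ} (hd : Fintype.card F = p ^ d) :
    ∃ rels : Finset (FreeGroup (Fin 4)), rels.card ≤ 14 ∧
      Nonempty (PresentedGroup (↑rels : Set (FreeGroup (Fin 4))) ≃* Matrix.SpecialLinearGroup (Fin 3) F) := by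
  classical
  obtain ⟨D, hlen⟩ := exists_dat hd
  refine ⟨(relL D (FreeGroup.of (α := Fin 4))).toFinset,
    (List.toFinset_card_le _).trans (length_relL_le D _ hlen), ?_⟩
  set rels : Set (FreeGroup (Fin 4)) := ↑(relL D (FreeGroup.of (α := Fin 4))).toFinset with hrels
  have hR : ∀ r ∈ rels, FreeGroup.lift (gensS D) r = 1 := by
    intro r hr
    have hr' : r ∈ relL D (FreeGroup.of (α := Fin 4)) := List.mem_toFinset.1 hr
    have h : FreeGroup.lift (gensS D) r ∈ (relL D (FreeGroup.of (α := Fin 4))).map (FreeGroup.lift (gensS D)) :=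
      List.mem_map.2 ⟨r, hr', rfl⟩
    rw [map_relL, show (FreeGroup.lift (gensS D) ∘ FreeGroup.of) = gensS D from funext fun i => by simp] at h
    exact relL_of_holds D _ (holds_gensS D) _ h
  let θ := PresentedGroup.toGroup hR
  have hG : ∀ r ∈ relL D (PresentedGroup.of (rels := rels)), r = 1 := by
    intro r hr
    rw [show (PresentedGroup.of (rels := rels)) = PresentedGroup.mk rels ∘ FreeGroup.of from rfl, ← map_relL,
      List.mem_map] at hr
    obtain ⟨r', hr', rfl⟩ := hr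
    exact PresentedGroup.one_of_mem (List.mem_toFinset.2 hr')
  have R := holds_of_relL D _ hG
  obtain ⟨ψ, hψ⟩ := StLinear.exists_hom (strel R)
  have hsurj : Function.Surjective ψ := by
    rw [← MonoidHom.range_eq_top, eq_top_iff, ← PresentedGroup.closure_range_of rels, Subgroup.closure_le]
    obtain ⟨h0, h1, h2, h3⟩ := gens_mem R ψ.range fun i j hij t => ⟨_, hψ i j t hij⟩
    rintro _ ⟨i, rfl⟩
    fin_cases i
    exacts [h0, h1, h2, h3]
  have hof : ∀ i, θ (PresentedGroup.of i) = gensS D i := fun i => PresentedGroup.toGroup.of hR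
  have hx : ∀ t, θ (par D R t) = T 0 1 t := by
    intro t
    obtain ⟨f, rfl⟩ := D.surj t
    rw [← pw_par R, map_pw, hof, hof, pw_T]
  have hcf : ∀ (d' : PresentedGroup rels) (f : F → PresentedGroup rels) (g : F → Matrix.SpecialLinearGroup (Fin 3) F),
      (∀ t, θ (f t) = g t) → ∀ t, θ (cf d' f t) = cf (θ d') g t := fun d' f g h t => by
    simp [cf, h]
  have hXf : ∀ i j t, θ (Xf (par D R) (PresentedGroup.of 2) (PresentedGroup.of 3) i j t) = Xf (T 0 1) cS wS i j t := by
    have hc : θ (PresentedGroup.of 2) = cS := hof 2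
    have hw : θ (PresentedGroup.of 3) = wS := hof 3
    have e12 := hcf (PresentedGroup.of 2) _ _ hx
    have e10 := hcf (PresentedGroup.of 3) _ _ hx
    have e21 := hcf (PresentedGroup.of 2) _ _ e10
    rw [hc] at e12 e21
    rw [hw] at e10 e21
    intro i j t
    fin_cases i <;> fin_cases j
    exacts [map_one θ, hx t, (hcf _ _ _ e21 t).trans (by rw [hc]; rfl), e10 t, map_one θ, e12 t,
      (hcf _ _ _ e12 t).trans (by rw [hc]; rfl), e21 t, map_one θ]
  have hcomp : θ.comp ψ = StLinear.toSL (Fin 3) F := by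
    refine StLinear.hom_ext fun i j t hij => ?_
    rw [MonoidHom.comp_apply, hψ i j t hij, hXf, Xf_T i j hij, T, dif_pos hij, StLinear.toSL_xe i j t hij]
  have hbij := StLinear.toSL_bijective (ι := Fin 3) (K := F) (by simp)
  rw [← hcomp] at hbij
  exact ⟨MulEquiv.ofBijective θ ⟨Function.Injective.of_comp_right hbij.1 hsurj, Function.Surjective.of_comp hbij.2⟩⟩

end Cfsg.Agent.SL3Pres
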