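import Cfsg.Agent.Lib.SL3Pres.Steinberg

/-!
# The relations hold in `SL₃`
-/

set_option autoImplicit false
set_option linter.unusedSectionVars false
set_option maxHeartbeats 1000000

namespace Cfsg.Agent.SL3Pres

open Polynomial Cfsg.Agent.SL2Pres
open scoped commutatorElement

variable {F : Type*} [Field F]

local notation "SLF" => Matrix.SpecialLinearGroup (Fin 3) F

/-- A transvection, with `1` on the diagonal. -/
def T (a b : Fin 3) (t : F) : SLF := if h : a ≠ b then Matrix.SpecialLinearGroup.transvection h t else 1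

/-- The diagonal element `(x, y, 1/(xy))`. -/
noncomputable def dg (x y : Fˣ) : SLF :=
  ⟨!![(x : F), 0, 0; 0, (y : F), 0; 0, 0, ((x * y)⁻¹ : Fˣ)], by simp [Matrix.det_fin_three]; field_simp⟩

/-- The monomial three-cycle. -/
def cS : SLF := ⟨!![0, 0, -1; -1, 0, 0; 0, 1, 0], by simp [Matrix.det_fin_three]⟩

/-- The monomial transposition. -/
def wS : SLF := ⟨!![0, 1, 0; -1, 0, 0; 0, 0, 1], by simp [Matrix.det_fin_three]⟩

theorem T_strel : CTLocal.StA.StRel Set.univ (T (F := F)) :=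
  StLinear.transvection_rel (ι := Fin 3) (K := F)

theorem T_add (a b : Fin 3) (h : a ≠ b) (s t : F) : T a b (s + t) = T a b s * T a b t :=
  (T_strel.add a b trivial trivial h s t).symm

theorem dg_mul (x y x' y' : Fˣ) : (dg x y * dg x' y' : SLF) = dg (x * x') (y * y') := by
  apply Subtype.ext
  try simp only [Matrix.SpecialLinearGroup.coe_mul]
  ext i j; fin_cases i <;> fin_cases j <;> simp [dg, Matrix.mul_apply, Fin.sum_univ_three]
  field_simp

theorem dg_one : (dg 1 1 : SLF) = 1 := by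
  apply Subtype.ext
  try simp only [Matrix.SpecialLinearGroup.coe_mul]
  ext i j; fin_cases i <;> fin_cases j <;> simp [dg]

theorem dg_inv (x y : Fˣ) : (dg x y : SLF)⁻¹ = dg x⁻¹ y⁻¹ :=
  inv_eq_of_mul_eq_one_right (by rw [dg_mul, mul_inv_cancel, mul_inv_cancel, dg_one])

theorem dg_pow (x y : Fˣ) : ∀ n : ℕ, (dg x y : SLF) ^ n = dg (x ^ n) (y ^ n) := by
  intro n
  induction n with
  | zero => simp [dg_one]
  | succ n ih => rw [pow_succ, ih, dg_mul, pow_succ, pow_succ]

theorem sc_dg (x y : Fˣ) : Sc (dg x y : SLF) (T 0 1) ((x : F) / y) := by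
  intro t
  rw [mul_inv_eq_iff_eq_mul]
  apply Subtype.ext
  try simp only [Matrix.SpecialLinearGroup.coe_mul]
  ext i j; fin_cases i <;> fin_cases j <;>
    simp [dg, T, Matrix.SpecialLinearGroup.transvection, Matrix.transvection, Matrix.mul_apply, Fin.sum_univ_three,
      Matrix.single_apply, Matrix.one_apply] <;> field_simp

theorem cf_wS : cf (wS : SLF) (T 0 1) = T 1 0 := by
  funext t
  rw [cf, mul_inv_eq_iff_eq_mul]
  apply Subtype.ext
  try simp only [Matrix.SpecialLinearGroup.coe_mul]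
  ext i j; fin_cases i <;> fin_cases j <;>
    simp [wS, T, Matrix.SpecialLinearGroup.transvection, Matrix.transvection, Matrix.mul_apply, Fin.sum_univ_three,
      Matrix.single_apply, Matrix.one_apply]

theorem cf_cS : cf (cS : SLF) (T 0 1) = T 1 2 ∧ cf (cS : SLF) (T 1 2) = T 2 0 ∧
    cf (cS : SLF) (T 1 0) = T 2 1 ∧ cf (cS : SLF) (T 2 1) = T 0 2 := by
  refine ⟨?_, ?_, ?_, ?_⟩ <;>
  · funext t
    rw [cf, mul_inv_eq_iff_eq_mul]
    apply Subtype.ext
    try simp only [Matrix.SpecialLinearGroup.coe_mul]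
    ext i j; fin_cases i <;> fin_cases j <;>
      simp [cS, T, Matrix.SpecialLinearGroup.transvection, Matrix.transvection, Matrix.mul_apply, Fin.sum_univ_three,
        Matrix.single_apply, Matrix.one_apply]

theorem Xf_T (a b : Fin 3) (h : a ≠ b) : Xf (T (F := F) 0 1) cS wS a b = T a b := by
  obtain ⟨e1, e2, e3, e4⟩ := cf_cS (F := F)
  have h02 : cf cS (cf cS (cf wS (T (F := F) 0 1))) = T 0 2 := by rw [cf_wS, e3, e4]
  have h20 : cf cS (cf cS (T (F := F) 0 1)) = T 2 0 := by rw [e1, e2]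
  have h21 : cf cS (cf wS (T (F := F) 0 1)) = T 2 1 := by rw [cf_wS, e3]
  fin_cases a <;> fin_cases b
  exacts [absurd rfl h, rfl, h02, cf_wS, absurd rfl h, e1, h20, h21, absurd rfl h]

theorem cS_cube : (cS : SLF) ^ 3 = 1 := by
  rw [pow_three]
  apply Subtype.ext
  try simp only [Matrix.SpecialLinearGroup.coe_mul]
  ext i j; fin_cases i <;> fin_cases j <;> simp [cS, Matrix.mul_apply, Fin.sum_univ_three]

theorem wS_cw : (wS : SLF) * (cS * wS * cS⁻¹) = cS := by
  rw [← mul_assoc, mul_inv_eq_iff_eq_mul]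
  apply Subtype.ext
  try simp only [Matrix.SpecialLinearGroup.coe_mul]
  ext i j; fin_cases i <;> fin_cases j <;> simp [cS, wS, Matrix.mul_apply, Fin.sum_univ_three]

theorem hW_dg (z : Fˣ) : hW (dg 1 z⁻¹ : SLF) wS = dg z z⁻¹ := by
  rw [hW, mul_inv_eq_iff_eq_mul, mul_inv_eq_iff_eq_mul]
  apply Subtype.ext
  try simp only [Matrix.SpecialLinearGroup.coe_mul]
  ext i j; fin_cases i <;> fin_cases j <;> simp [dg, wS, Matrix.mul_apply, Fin.sum_univ_three]

theorem link_dg (z : Fˣ) : (cS : SLF) * dg z z⁻¹ * cS⁻¹ = (dg 1 z⁻¹)⁻¹ := by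
  rw [dg_inv, mul_inv_eq_iff_eq_mul]
  apply Subtype.ext
  try simp only [Matrix.SpecialLinearGroup.coe_mul]
  ext i j; fin_cases i <;> fin_cases j <;> simp [dg, cS, Matrix.mul_apply, Fin.sum_univ_three]

theorem wS_sq : (wS : SLF) * wS = dg (-1) (-1) := by
  apply Subtype.ext
  try simp only [Matrix.SpecialLinearGroup.coe_mul]
  ext i j; fin_cases i <;> fin_cases j <;> simp [dg, wS, Matrix.mul_apply, Fin.sum_univ_three]

variable {p : ℕ} [Fact p.Prime] [Algebra (ZMod p) F]

/-- The images of the generators. -/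
noncomputable def gensS (D : Dat p F) : Fin 4 → SLF :=
  ![T 0 1 1, dg 1 (Units.mk0 D.ζ D.ne)⁻¹, cS, wS]

theorem pw_T (D : Dat p F) (f : (ZMod p)[X]) :
    pw (gensS D 1) (gensS D 0) f = T 0 1 (aeval D.ζ f) := by
  refine pw_eq D.ζ (fun t => T (F := F) 0 1 t) (T_add 0 1 (by decide)) rfl (fun t => ?_) f
  have := sc_dg (F := F) 1 (Units.mk0 D.ζ D.ne)⁻¹ t
  simpa [gensS] using this

theorem holds_gensS (D : Dat p F) : Holds D (gensS D 0) (gensS D 1) (gensS D 2) (gensS D 3) := by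
  set z := Units.mk0 D.ζ D.ne with hz
  have hTa := T_add (F := F) 0 1 (by decide)
  have hA : Sc (dg 1 z⁻¹ : SLF) (T 0 1) D.ζ := by simpa [hz] using sc_dg (F := F) 1 z⁻¹
  have hcj : ∀ i, cjN (gensS D 1) (gensS D 0) i = T 0 1 (D.ζ ^ i) := fun i => by
    have := (hA.pow i) 1
    rwa [mul_one] at this
  have hx12 : ∀ i, x12W (gensS D 0) (gensS D 1) (gensS D 2) i = T 1 2 (D.ζ ^ i) := fun i => by
    rw [x12W, hcj, ← inv_of_add hTa]
    exact congrFun cf_cS.1 _
  have hx02 : ∀ i, x02W (gensS D 0) (gensS D 1) (gensS D 2) (gensS D 3) i = T 0 2 (D.ζ ^ i) := fun i => by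
    have h := congrFun (Xf_T (F := F) 0 2 (by decide)) (D.ζ ^ i)
    rw [x02W, hcj, ← inv_of_add hTa, ← h]
    show _ = cf cS (cf cS (cf wS (T 0 1))) (D.ζ ^ i)
    simp only [cf, neg_neg]
    show cS * cS * (wS * _ * wS⁻¹) * (cS * cS)⁻¹ = _
    group
  have hT1 : gensS D 0 = T 0 1 1 := rfl
  constructor
  · have hn : ∀ n : ℕ, (T 0 1 (1 : F) : SLF) ^ n = T 0 1 (n : F) := fun n => by
      induction n with
      | zero => rw [pow_zero, Nat.cast_zero, eq_one_of_add hTa]
      | succ n ih => rw [pow_succ, ih, Nat.cast_succ, hTa]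
    have := charP_of_injective_algebraMap (algebraMap (ZMod p) F).injective p
    rw [hT1, hn, CharP.cast_eq_zero F p, eq_one_of_add hTa]
  · rw [hcj, hT1]
    show T 0 1 _ * T 0 1 _ = T 0 1 _ * T 0 1 _
    rw [← hTa, ← hTa, add_comm]
  · refine D.spread.imp_right fun hj => ?_
    have := (hA.pow D.j) 1
    rw [mul_one, hj, hTa] at this
    rw [hcj, pow_one]
    exact this
  · rw [pw_T, D.eval_m, eq_one_of_add hTa]
  · have h := (sc_dg (F := F) z z⁻¹).mul ((hA.pow 2).inv (pow_ne_zero _ D.ne))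
    have e : ((z : F) / ((z⁻¹ : Fˣ) : F)) * (D.ζ ^ 2)⁻¹ = 1 := by
      simp [hz, pow_two]; field_simp [D.ne]
    rw [e] at h
    have := h 1
    rw [one_mul, mul_inv_eq_iff_eq_mul] at this
    rw [show hW (gensS D 1) (gensS D 3) = dg z z⁻¹ from hW_dg z]
    exact this
  · rw [show hW (gensS D 1) (gensS D 3) = dg z z⁻¹ from hW_dg z]
    show dg z z⁻¹ * dg 1 z⁻¹ = dg 1 z⁻¹ * dg z z⁻¹
    rw [dg_mul, dg_mul, mul_comm z, mul_comm z⁻¹]
  · rw [show hW (gensS D 1) (gensS D 3) = dg z z⁻¹ from hW_dg z]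
    exact link_dg z
  · exact cS_cube
  · exact wS_cw
  · rw [show hW (gensS D 1) (gensS D 3) = dg z z⁻¹ from hW_dg z, dg_pow]
    have hk : z ^ D.k = -1 := Units.ext (by simp [hz, D.neg])
    rw [inv_pow, hk, inv_neg, inv_one]
    exact wS_sq
  · have h10 : (wS : SLF) * T 0 1 1 * wS⁻¹ = T 1 0 (-1) := by
      have := congrFun (cf_wS (F := F)) (-1)
      simpa [cf] using this
    show T 0 1 1 * (wS * T 0 1 1 * wS⁻¹) * T 0 1 1 = wS
    rw [h10]
    apply Subtype.ext
    try simp only [Matrix.SpecialLinearGroup.coe_mul]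
    ext i j; fin_cases i <;> fin_cases j <;>
      simp [wS, T, Matrix.SpecialLinearGroup.transvection, Matrix.transvection, Matrix.mul_apply, Fin.sum_univ_three,
        Matrix.single_apply, Matrix.one_apply]
  · intro i _
    rw [hx12, hx02, hT1]
    have := T_strel.comm1 0 1 2 trivial trivial trivial (by decide) (by decide) (by decide) 1 (D.ζ ^ i)
    rwa [one_mul, ← commutatorElement_def] at this
  · intro _
    rw [hx12, hx02, hT1]
    exact ⟨T_strel.comm0 0 1 0 2 trivial trivial trivial trivial (by decide) (by decide) (by decide) (by decide) _ _,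
      T_strel.comm0 1 2 0 2 trivial trivial trivial trivial (by decide) (by decide) (by decide) (by decide) _ _⟩

end Cfsg.Agent.SL3Pres
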