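import Cfsg.Agent.Lib.SL3Pres.Torus
import Cfsg.Agent.Lib.StLinear.Main

/-!
# The relations of elementary matrices from the short list
-/

set_option autoImplicit false
set_option linter.unusedSectionVars false

namespace Cfsg.Agent.SL3Pres

open Polynomial Cfsg.Agent.SL2Pres Cfsg.Agent.CTLocal
open scoped commutatorElement

variable {H : Type*} [Group H] {F : Type*} [Field F]

theorem commutator_move {d x y z x' y' z' : H} (h : ⁅x, y⁆ = z) (ex : d * x * d⁻¹ = x') (ey : d * y * d⁻¹ = y')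
    (ez : d * z * d⁻¹ = z') : ⁅x', y'⁆ = z' := by
  rw [← ex, ← ey, ← ez, ← h]
  simp only [commutatorElement_def]; group

theorem commute_move {d x y x' y' : H} (h : Commute x y) (ex : d * x * d⁻¹ = x') (ey : d * y * d⁻¹ = y') :
    Commute x' y' := ex ▸ ey ▸ h.map (MulAut.conj d)

variable {p : ℕ} [Fact p.Prime] [Algebra (ZMod p) F] {D : Dat p F} {u a c w : H}
variable (R : Holds D u a c w)
include R

local notation "x01" => par D R
local notation "x12" => cf c (par D R)
local notation "x02" => cf c (cf c (cf w (par D R)))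

theorem x12_add : ∀ s t, x12 (s + t) = x12 s * x12 t := cf_add (par_add R)

theorem x02_add : ∀ s t, x02 (s + t) = x02 s * x02 t := cf_add (cf_add (cf_add (par_add R)))

theorem x12W_eq (i : ℕ) : x12W u a c i = x12 (D.ζ ^ i) := by
  rw [x12W, cjN_par R, cf, inv_of_add (par_add R)]

theorem x02W_eq (i : ℕ) : x02W u a c w i = x02 (D.ζ ^ i) := by
  rw [x02W, cjN_par R]
  simp only [cf, neg_neg, inv_of_add (par_add R)]
  group

/-- The first commutator relation, and the commutation with the highest root group. -/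
theorem comm_all : (∀ t s, ⁅x01 t, x12 s⁆ = x02 (t * s)) ∧ (∀ t r, Commute (x01 t) (x02 r)) ∧
    ∀ s r, Commute (x12 s) (x02 r) := by
  have hz : D.ζ ≠ 0 := D.ne
  obtain ⟨⟨a12, h12⟩, -, a02, h02⟩ := scalings R
  have a01 := sc_a_01 R
  have h01 := sc_h_01 R
  have hu := par_one R
  have hu0 : ∀ d l, Sc d x01 l → d * u * d⁻¹ = x01 l := fun d l hd => by
    have := hd 1; rwa [hu, mul_one] at this
  set h := hW a w
  -- the elements fixing one simple root group
  have K01 : Sc (h * h * a⁻¹) x01 (D.ζ ^ 3) := by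
    rw [show D.ζ ^ 3 = D.ζ ^ 2 * D.ζ ^ 2 * D.ζ⁻¹ by field_simp]
    exact (h01.mul h01).mul (a01.inv hz)
  have K12 : Sc (h * h * a⁻¹) x12 1 := by
    rw [show (1 : F) = D.ζ⁻¹ * D.ζ⁻¹ * ((D.ζ ^ 2)⁻¹)⁻¹ by field_simp]
    exact (h12.mul h12).mul (a12.inv (inv_ne_zero (pow_ne_zero _ hz)))
  have K02 : Sc (h * h * a⁻¹) x02 (D.ζ ^ 3) := by
    rw [show D.ζ ^ 3 = D.ζ * D.ζ * (D.ζ⁻¹)⁻¹ by field_simp]
    exact (h02.mul h02).mul (a02.inv (inv_ne_zero hz))
  have L01 : Sc (h * a⁻¹ * a⁻¹) x01 1 := by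
    rw [show (1 : F) = D.ζ ^ 2 * D.ζ⁻¹ * D.ζ⁻¹ by field_simp]
    exact (h01.mul (a01.inv hz)).mul (a01.inv hz)
  have L12 : Sc (h * a⁻¹ * a⁻¹) x12 (D.ζ ^ 3) := by
    have e := a12.inv (inv_ne_zero (pow_ne_zero _ hz))
    rw [show D.ζ ^ 3 = D.ζ⁻¹ * ((D.ζ ^ 2)⁻¹)⁻¹ * ((D.ζ ^ 2)⁻¹)⁻¹ by field_simp]
    exact (h12.mul e).mul e
  have L02 : Sc (h * a⁻¹ * a⁻¹) x02 (D.ζ ^ 3) := by
    have e := a02.inv (inv_ne_zero hz)
    rw [show D.ζ ^ 3 = D.ζ * (D.ζ⁻¹)⁻¹ * (D.ζ⁻¹)⁻¹ by field_simp]
    exact (h02.mul e).mul e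
  -- from one value of the first parameter to all
  have full : (∀ s, ⁅x01 1, x12 s⁆ = x02 s) → ∀ t s, ⁅x01 t, x12 s⁆ = x02 (t * s) := by
    intro h1 t s
    rcases eq_or_ne t 0 with rfl | ht
    · rw [eq_one_of_add (par_add R), zero_mul, eq_one_of_add (x02_add R), commutatorElement_one_left]
    obtain ⟨n, rfl⟩ := D.gen t ht
    refine commutator_move (h1 (((D.ζ ^ 2) ^ n) * s)) ((a01.pow n 1).trans (by rw [mul_one]))
      ((a12.pow n _).trans ?_) ((a02.pow n _).trans ?_)
    · rw [← mul_assoc, ← mul_pow, inv_mul_cancel₀ (pow_ne_zero _ hz), one_pow, one_mul]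
    · rw [← mul_assoc, ← mul_pow, show D.ζ⁻¹ * D.ζ ^ 2 = D.ζ by field_simp]
  rcases D.good with hcls | ⟨hns, hspan⟩
  · have h1 : ∀ s, ⁅x01 1, x12 s⁆ = x02 s := by
      intro s
      rcases eq_or_ne s 0 with rfl | hs
      · rw [eq_one_of_add (x12_add R), eq_one_of_add (x02_add R), commutatorElement_one_right]
      obtain ⟨n, i, hi, rfl⟩ := hcls s hs
      have e := R.comm1 i hi
      rw [x12W_eq R, x02W_eq R] at e
      refine commutator_move e ((hu0 _ _ (L01.pow n)).trans (by rw [one_pow]))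
        ((L12.pow n _).trans ?_) ((L02.pow n _).trans ?_) <;> rw [← pow_mul, ← pow_add]
    have hall := full h1
    refine ⟨hall, fun t r => ?_, fun s r => ?_⟩
    · have e := hall (t + r) 1
      rw [par_add R, StLinear.elem_mul_left, hall, hall, add_mul, x02_add R, mul_one, mul_one] at e
      have e' : x01 t * x02 r * (x01 t)⁻¹ = x02 r := by
        have h2 := x02_add R r t
        rw [add_comm, x02_add R] at h2
        rw [h2] at e
        exact mul_right_cancel e
      exact mul_inv_eq_iff_eq_mul.1 e'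
    · have e := hall 1 (s + r)
      rw [x12_add R, StLinear.elem_mul_right, hall, hall, one_mul, one_mul, one_mul, x02_add R] at e
      exact mul_inv_eq_iff_eq_mul.1 (mul_left_cancel e)
  · obtain ⟨c1, c2⟩ := R.cent hns
    rw [x02W_eq R, pow_zero] at c1 c2
    rw [x12W_eq R, pow_zero] at c2
    have hU : ∀ r, Commute (x01 1) (x02 r) := forall_of_span hspan
      (by rw [eq_one_of_add (x02_add R)]; exact Commute.one_right _)
      (fun s t hs ht => by rw [x02_add R]; exact hs.mul_right ht) fun n =>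
      commute_move c1 ((hu0 _ _ (L01.pow n)).trans (by rw [one_pow])) ((L02.pow n 1).trans (by rw [mul_one]))
    have hV : ∀ r, Commute (x12 1) (x02 r) := forall_of_span hspan
      (by rw [eq_one_of_add (x02_add R)]; exact Commute.one_right _)
      (fun s t hs ht => by rw [x02_add R]; exact hs.mul_right ht) fun n =>
      commute_move c2 ((K12.pow n 1).trans (by rw [one_pow, one_mul])) ((K02.pow n 1).trans (by rw [mul_one]))
    have hA : ∀ t r, Commute (x01 t) (x02 r) := by
      intro t r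
      rcases eq_or_ne t 0 with rfl | ht
      · rw [eq_one_of_add (par_add R)]; exact Commute.one_left _
      obtain ⟨n, rfl⟩ := D.gen t ht
      refine commute_move (hU (D.ζ ^ n * r)) ((a01.pow n 1).trans (by rw [mul_one])) ((a02.pow n _).trans ?_)
      rw [← mul_assoc, ← mul_pow, inv_mul_cancel₀ hz, one_pow, one_mul]
    have hB : ∀ s r, Commute (x12 s) (x02 r) := by
      intro s r
      rcases eq_or_ne s 0 with rfl | hs
      · rw [eq_one_of_add (x12_add R)]; exact Commute.one_left _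
      obtain ⟨n, rfl⟩ := D.gen s hs
      refine commute_move (hV (D.ζ ^ n * r)) (((h12.inv (inv_ne_zero hz)).pow n 1).trans (by rw [inv_inv, mul_one]))
        (((h02.inv hz).pow n _).trans ?_)
      rw [← mul_assoc, ← mul_pow, inv_mul_cancel₀ hz, one_pow, one_mul]
    refine ⟨full (forall_of_span hspan ?_ (fun s t hs ht => ?_) fun n => ?_), hA, hB⟩
    · rw [eq_one_of_add (x12_add R), eq_one_of_add (x02_add R), commutatorElement_one_right]
    · rw [x12_add R, StLinear.elem_mul_right, hs, ht, (hB s t).eq, mul_inv_cancel_right, ← x02_add R]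
    · have e := R.comm1 0 (by rw [hns]; exact List.mem_singleton_self 0)
      rw [x12W_eq R, x02W_eq R, pow_zero] at e
      exact commutator_move e ((hu0 _ _ (L01.pow n)).trans (by rw [one_pow]))
        ((L12.pow n 1).trans (by rw [mul_one])) ((L02.pow n 1).trans (by rw [mul_one]))

end Cfsg.Agent.SL3Pres
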