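import Cfsg.Agent.Lib.SL3Pres.Relations

/-!
# The six families satisfy the relations of elementary matrices and generate
-/

set_option autoImplicit false
set_option linter.unusedSectionVars false
set_option maxHeartbeats 1000000

namespace Cfsg.Agent.SL3Pres

open Polynomial Cfsg.Agent.SL2Pres Cfsg.Agent.CTLocal
open scoped commutatorElement

variable {H : Type*} [Group H] {F : Type*} [Field F] {p : ℕ} [Fact p.Prime] [Algebra (ZMod p) F]
variable {D : Dat p F} {u a c w : H} (R : Holds D u a c w)
include R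

local notation "X" => Xf (par D R) c w

theorem strel : StA.StRel Set.univ X := by
  have hadd := par_add R
  obtain ⟨hC, hA, hB⟩ := comm_all R
  have hc3 : c * c * c = 1 := by rw [← pow_three']; exact R.cube
  have m1 : ∀ (f : F → H) t, c * f t * c⁻¹ = cf c f (-t) := fun f t => by simp [cf]
  have m2 : ∀ (f : F → H) t, c * cf c (cf c f) t * c⁻¹ = f t := fun f t => by
    calc c * cf c (cf c f) t * c⁻¹ = (c * c * c) * f t * (c * c * c)⁻¹ := by simp only [cf, neg_neg]; group
      _ = f t := by rw [hc3]; group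
  -- the square of the Weyl element on the first root group
  have hw1 : Sc (w * w) (par D R) 1 := by
    have := (sc_h_01 R).pow D.k
    rw [← R.sq] at this
    rwa [← pow_mul, mul_comm, pow_mul, D.neg, neg_one_sq] at this
  have hwinv : ∀ t, w⁻¹ * par D R t * w = w * par D R t * w⁻¹ := fun t => by
    conv_lhs => rw [← one_mul t, ← hw1 t]
    group
  have w01 : ∀ t, w * par D R t * w⁻¹ = cf w (par D R) (-t) := fun t => by simp [cf]
  have w12 : ∀ s, w * cf c (par D R) s * w⁻¹ = cf c (cf c (cf w (par D R))) s := fun s => by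
    have hcc : c * c = c⁻¹ := (inv_eq_of_mul_eq_one_left hc3).symm
    calc w * cf c (par D R) s * w⁻¹ = (w * c) * par D R (-s) * (w * c)⁻¹ := by simp only [cf]; group
      _ = c⁻¹ * (w⁻¹ * par D R (-s) * w) * c := by rw [wc R]; group
      _ = (c * c) * (w * par D R (-s) * w⁻¹) * (c * c)⁻¹ := by rw [hwinv, hcc]; group
      _ = _ := by simp only [cf, neg_neg]; group
  have w02 : ∀ s, w * cf c (cf c (cf w (par D R))) s * w⁻¹ = cf c (par D R) (-s) := fun s => by
    have hk := ((scalings R).1.2.pow D.k) s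
    rw [← R.sq, inv_pow, D.neg, inv_neg, inv_one, neg_one_mul] at hk
    rw [← w12, ← hk]; group
  -- commutator relations
  have c012 : ∀ t s, ⁅X 0 1 t, X 1 2 s⁆ = X 0 2 (t * s) := hC
  have c120 : ∀ t s, ⁅X 1 2 t, X 2 0 s⁆ = X 1 0 (t * s) := fun t s => by
    have := commutator_move (d := c) (hC (-t) (-s)) (m1 _ _) (m1 _ _) (m2 _ _)
    rwa [neg_neg, neg_neg, neg_mul_neg] at this
  have c201 : ∀ t s, ⁅X 2 0 t, X 0 1 s⁆ = X 2 1 (t * s) := fun t s => by
    have := commutator_move (d := c) (c120 (-t) s) (m1 _ _) (m2 _ _) (m1 _ _)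
    rwa [neg_neg, neg_mul, neg_neg] at this
  have c102 : ∀ t s, ⁅X 1 0 t, X 0 2 s⁆ = X 1 2 (t * s) := fun t s => by
    have := commutator_move (d := w) (hC (-t) s) (w01 _) (w12 _) (w02 _)
    rwa [neg_neg, neg_mul, neg_neg] at this
  have c210 : ∀ t s, ⁅X 2 1 t, X 1 0 s⁆ = X 2 0 (t * s) := fun t s => by
    have := commutator_move (d := c) (c102 (-t) s) (m1 _ _) (m2 _ _) (m1 _ _)
    rwa [neg_neg, neg_mul, neg_neg] at this
  have c021 : ∀ t s, ⁅X 0 2 t, X 2 1 s⁆ = X 0 1 (t * s) := fun t s => by
    have := commutator_move (d := c) (c210 (-t) (-s)) (m1 _ _) (m1 _ _) (m2 _ _)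
    rwa [neg_neg, neg_neg, neg_mul_neg] at this
  -- commuting pairs
  have p1 : ∀ t r, Commute (X 0 1 t) (X 0 2 r) := hA
  have p2 : ∀ s r, Commute (X 1 2 s) (X 0 2 r) := hB
  have p3 : ∀ t r, Commute (X 1 2 t) (X 1 0 r) := fun t r => by
    have := commute_move (d := c) (hA (-t) r) (m1 _ _) (m2 _ _)
    rwa [neg_neg] at this
  have p4 : ∀ t r, Commute (X 2 0 t) (X 2 1 r) := fun t r => by
    have := commute_move (d := c) (p3 (-t) (-r)) (m1 _ _) (m1 _ _)
    rwa [neg_neg, neg_neg] at this
  have p5 : ∀ t r, Commute (X 2 0 t) (X 1 0 r) := fun t r => by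
    have := commute_move (d := c) (hB (-t) r) (m1 _ _) (m2 _ _)
    rwa [neg_neg] at this
  have p6 : ∀ t r, Commute (X 0 1 t) (X 2 1 r) := fun t r => by
    have := commute_move (d := c) (p5 t (-r)) (m2 _ _) (m1 _ _)
    rwa [neg_neg] at this
  have a12 := cf_add (d := c) hadd
  have a10 := cf_add (d := w) hadd
  have self : ∀ a b : Fin 3, a ≠ b → ∀ s t, X a b (s + t) = X a b s * X a b t := by
    intro a b hab
    fin_cases a <;> fin_cases b <;> first
      | exact absurd rfl hab
      | exact hadd
      | exact a12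
      | exact a10
      | exact cf_add a12
      | exact cf_add a10
      | exact cf_add (cf_add a10)
  refine ⟨fun a b _ _ hab t s => (self a b hab t s).symm, fun a b d _ _ _ hab hbd had t s => ?_,
    fun a b e d _ _ _ _ hab hed hbe had t s => ?_⟩
  · rw [← commutatorElement_def]
    fin_cases a <;> fin_cases b <;> fin_cases d <;> first
      | exact absurd rfl hab
      | exact absurd rfl hbd
      | exact absurd rfl had
      | exact c012 t s
      | exact c120 t s
      | exact c201 t s
      | exact c102 t s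
      | exact c210 t s
      | exact c021 t s
  · by_cases hsame : a = e ∧ b = d
    · obtain ⟨rfl, rfl⟩ := hsame
      show X a b t * X a b s = X a b s * X a b t
      rw [← self a b hab, ← self a b hab, add_comm]
    fin_cases a <;> fin_cases b <;> fin_cases e <;> fin_cases d <;> first
      | exact absurd rfl hab
      | exact absurd rfl hed
      | exact absurd rfl hbe
      | exact absurd rfl had
      | exact absurd ⟨rfl, rfl⟩ hsame
      | exact p1 t s
      | exact (p1 s t).symm
      | exact p2 t s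
      | exact (p2 s t).symm
      | exact p3 t s
      | exact (p3 s t).symm
      | exact p4 t s
      | exact (p4 s t).symm
      | exact p5 t s
      | exact (p5 s t).symm
      | exact p6 t s
      | exact (p6 s t).symm

theorem gens_mem (S : Subgroup H) (hS : ∀ i j : Fin 3, i ≠ j → ∀ t, X i j t ∈ S) :
    u ∈ S ∧ a ∈ S ∧ c ∈ S ∧ w ∈ S := by
  have h01 : ∀ t, par D R t ∈ S := hS 0 1 (by decide)
  have h10 : ∀ t, w * par D R t * w⁻¹ ∈ S := fun t => by
    have := hS 1 0 (by decide) (-t)
    change cf w (par D R) (-t) ∈ S at this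
    simpa [cf] using this
  have h12 : ∀ t, c * par D R t * c⁻¹ ∈ S := fun t => by
    have := hS 1 2 (by decide) (-t)
    change cf c (par D R) (-t) ∈ S at this
    simpa [cf] using this
  have h21 : ∀ t, c * (w * par D R t * w⁻¹) * c⁻¹ ∈ S := fun t => by
    have := hS 2 1 (by decide) t
    change cf c (cf w (par D R)) t ∈ S at this
    simpa [cf] using this
  have hu := par_one R
  have hu' : u ∈ S := hu ▸ h01 1
  have hw : w ∈ S := by
    have := S.mul_mem (S.mul_mem hu' (h10 1)) hu'
    rwa [hu, R.one] at this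
  have hc : c ∈ S := by
    have h := S.mul_mem (S.mul_mem (h12 1) (h21 1)) (h12 1)
    rw [hu] at h
    have e : c * u * c⁻¹ * (c * (w * u * w⁻¹) * c⁻¹) * (c * u * c⁻¹) = c * w * c⁻¹ := by
      conv_rhs => rw [← R.one]
      group
    rw [e] at h
    have := S.mul_mem hw h
    rwa [R.cw] at this
  have haw : a * w * a⁻¹ ∈ S := by
    have ea := (sc_a_01 R) 1
    have eb := (scalings R).2.1.1 (-1)
    rw [hu, mul_one] at ea
    simp only [cf, neg_neg, hu] at eb
    have e : a * w * a⁻¹ = (a * u * a⁻¹) * (a * (w * u * w⁻¹) * a⁻¹) * (a * u * a⁻¹) := by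
      conv_lhs => rw [← R.one]
      group
    rw [e, ea, eb]
    exact S.mul_mem (S.mul_mem (h01 _) (h10 _)) (h01 _)
  have hh : hW a w ∈ S := S.mul_mem haw (S.inv_mem hw)
  refine ⟨hu', ?_, hc, hw⟩
  have := S.inv_mem (S.mul_mem (S.mul_mem hc hh) (S.inv_mem hc))
  rwa [R.link, inv_inv] at this

end Cfsg.Agent.SL3Pres
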