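import Cfsg.Agent.Lib.SL3Pres.Words

/-!
# The six root families in a group satisfying the relations, and the torus acting on them
-/

set_option autoImplicit false
set_option linter.unusedSectionVars false

namespace Cfsg.Agent.SL3Pres

open Polynomial Cfsg.Agent.SL2Pres
open scoped commutatorElement

variable {H : Type*} [Group H] {F : Type*} [Field F]

/-- A family moved by an element, with a change of sign. -/
def cf (d : H) (f : F → H) : F → H := fun t => d * f (-t) * d⁻¹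

/-- The six root families. -/
def Xf (x : F → H) (c w : H) : Fin 3 → Fin 3 → F → H :=
  ![![1, x, cf c (cf c (cf w x))], ![cf w x, 1, cf c x], ![cf c (cf c x), cf c (cf w x), 1]]

/-- An element scales a family. -/
def Sc (g : H) (f : F → H) (l : F) : Prop := ∀ t, g * f t * g⁻¹ = f (l * t)

theorem Sc.mul {g g' : H} {f : F → H} {l l' : F} (h : Sc g f l) (h' : Sc g' f l') : Sc (g * g') f (l * l') := by
  intro t
  rw [mul_assoc l l', ← h, ← h']; group

theorem Sc.inv {g : H} {f : F → H} {l : F} (h : Sc g f l) (hl : l ≠ 0) : Sc g⁻¹ f l⁻¹ := by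
  intro t
  have := h (l⁻¹ * t)
  rw [← mul_assoc, mul_inv_cancel₀ hl, one_mul] at this
  conv_lhs => rw [← this]
  group

theorem Sc.pow {g : H} {f : F → H} {l : F} (h : Sc g f l) : ∀ n : ℕ, Sc (g ^ n) f (l ^ n) := by
  intro n
  induction n with
  | zero => intro t; simp
  | succ n ih => rw [pow_succ, pow_succ]; exact ih.mul h

theorem Sc.cf {g d : H} {f : F → H} {l : F} (h : Sc (d⁻¹ * g * d) f l) : Sc g (cf d f) l := by
  intro t
  show g * (d * f (-t) * d⁻¹) * g⁻¹ = d * f (-(l * t)) * d⁻¹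
  rw [← mul_neg, ← h]; group

theorem cf_add {d : H} {f : F → H} (hf : ∀ s t, f (s + t) = f s * f t) (s t : F) :
    cf d f (s + t) = cf d f s * cf d f t := by
  simp only [cf, neg_add, hf]; group

theorem eq_one_of_add {f : F → H} (hf : ∀ s t, f (s + t) = f s * f t) : f 0 = 1 := by
  have := hf 0 0
  rw [add_zero] at this
  exact left_eq_mul.1 this

theorem inv_of_add {f : F → H} (hf : ∀ s t, f (s + t) = f s * f t) (t : F) : f (-t) = (f t)⁻¹ :=
  eq_inv_of_mul_eq_one_left (by rw [← hf, neg_add_cancel, eq_one_of_add hf])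

variable {p : ℕ} [Fact p.Prime] [Algebra (ZMod p) F]

/-- A predicate closed under sums which holds on powers of a generator holds everywhere. -/
theorem forall_of_span {A : F} (hA : ∀ t : F, ∃ f : (ZMod p)[X], aeval A f = t) {P : F → Prop} (h0 : P 0)
    (hadd : ∀ s t, P s → P t → P (s + t)) (hpow : ∀ n : ℕ, P (A ^ n)) (t : F) : P t := by
  obtain ⟨f, rfl⟩ := hA t
  induction f using Polynomial.induction_on' with
  | add f g hf hg => rw [map_add]; exact hadd _ _ hf hg
  | monomial n c =>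
    rw [← C_mul_X_pow_eq_monomial, ← smul_eq_C_mul, map_smul, map_pow, aeval_X, val_smul]
    induction c.val with
    | zero => rwa [zero_smul]
    | succ k ih => rw [succ_nsmul]; exact hadd _ _ ih (hpow n)

variable (D : Dat p F) {u a c w : H}

theorem exists_par (R : Holds D u a c w) :
    ∃ x : F → H, (∀ s t, x (s + t) = x s * x t) ∧ x 1 = u ∧ Sc a x D.ζ := by
  have hcomm : ∀ n, Commute u (cjN a u n) := by
    rcases R.spread with hd | hj
    · exact commute_cjN_small R.comm D.monic D.deg_pos hd R.rel_m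
    · exact commute_cjN R.comm (Commute.self_pow a D.j) hj
  exact exists_param R.pow_u hcomm D.m R.rel_m D.ζ D.surj D.ker

/-- The parametrised root group of `u`. -/
noncomputable def par (R : Holds D u a c w) : F → H := (exists_par D R).choose

variable {D}
variable (R : Holds D u a c w)
include R

theorem par_add : ∀ s t, par D R (s + t) = par D R s * par D R t := (exists_par D R).choose_spec.1

theorem par_one : par D R 1 = u := (exists_par D R).choose_spec.2.1

theorem sc_a_01 : Sc a (par D R) D.ζ := (exists_par D R).choose_spec.2.2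

theorem pw_par (f : (ZMod p)[X]) : pw a u f = par D R (aeval D.ζ f) :=
  pw_eq D.ζ _ (par_add R) (par_one R) (sc_a_01 R) f

theorem cjN_par (i : ℕ) : cjN a u i = par D R (D.ζ ^ i) := by
  have := (sc_a_01 R).pow i 1
  rwa [mul_one, par_one R] at this

theorem sc_h_01 : Sc (hW a w) (par D R) (D.ζ ^ 2) := by
  set k0 := hW a w * (a ^ 2)⁻¹ with hk0
  have h1 : Sc k0 (par D R) 1 := by
    intro t
    obtain ⟨f, rfl⟩ := D.surj t
    rw [one_mul, ← pw_par R]
    have hka : Commute k0 a := R.h_a.mul_left ((Commute.pow_left (Commute.refl a) 2).inv_left)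
    have := map_pw (p := p) (MulAut.conj k0).toMonoidHom a u f
    simp only [MulEquiv.toMonoidHom_eq_coe, MonoidHom.coe_coe, MulAut.conj_apply] at this
    rwa [show k0 * a * k0⁻¹ = a from mul_inv_eq_of_eq_mul hka.eq,
      show k0 * u * k0⁻¹ = u from mul_inv_eq_of_eq_mul R.h_u.eq] at this
  have := h1.mul ((sc_a_01 R).pow 2)
  rwa [one_mul, show k0 * a ^ 2 = hW a w by rw [hk0]; group] at this

theorem wc : w * c = c⁻¹ * w⁻¹ := by
  have hc : c⁻¹ = c * c := inv_eq_of_mul_eq_one_right (by rw [← mul_assoc, ← pow_three']; exact R.cube)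
  calc w * c = w * (c * w * c⁻¹) * (c * w⁻¹) := by group
    _ = c⁻¹ * w⁻¹ := by rw [R.cw, hc]; group

theorem commute_ww_a : Commute (w * w) a := R.sq ▸ R.h_a.pow_left D.k

theorem waw : w * a * w⁻¹ = (hW a w)⁻¹ * a := by simp only [hW]; group

theorem waw' : w⁻¹ * a * w = (hW a w)⁻¹ * a := by
  rw [← waw R]
  calc w⁻¹ * a * w = w⁻¹ * (a * (w * w)) * w⁻¹ := by group
    _ = w * a * w⁻¹ := by rw [← (commute_ww_a R).eq]; group

theorem whw : w * hW a w * w⁻¹ = (hW a w)⁻¹ := by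
  calc w * hW a w * w⁻¹ = (w * a * w⁻¹) * ((w * w) * a⁻¹ * (w * w)⁻¹) := by simp only [hW]; group
    _ = (hW a w)⁻¹ := by
      rw [waw R, ((commute_ww_a R).inv_right).eq]; group

theorem whw' : w⁻¹ * hW a w * w = (hW a w)⁻¹ := by
  have hc : Commute (w * w) (hW a w) := R.sq ▸ Commute.pow_self _ _
  rw [← whw R]
  calc w⁻¹ * hW a w * w = w⁻¹ * (hW a w * (w * w)) * w⁻¹ := by group
    _ = w * hW a w * w⁻¹ := by rw [← hc.eq]; group

theorem cac : c⁻¹ * a * c = (hW a w)⁻¹ := by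
  have : a = (c * hW a w * c⁻¹)⁻¹ := by rw [R.link, inv_inv]
  conv_lhs => enter [1, 2]; rw [this]
  group

theorem chc : c⁻¹ * hW a w * c = (hW a w)⁻¹ * a := by
  have e1 : w * a⁻¹ * w⁻¹ = a⁻¹ * hW a w := by
    have := congrArg (·⁻¹) (waw R)
    simpa [mul_assoc] using this
  rw [← R.link] at e1
  have e2 : c⁻¹ * (hW a w)⁻¹ * c = a⁻¹ * hW a w := by
    rw [← R.link]
    calc c⁻¹ * (hW a w)⁻¹ * c = c⁻¹ * (w⁻¹ * hW a w * w) * c := by rw [whw' R]
      _ = (c⁻¹ * w⁻¹) * hW a w * (c⁻¹ * w⁻¹)⁻¹ := by group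
      _ = (w * c) * hW a w * (w * c)⁻¹ := by rw [← wc R]
      _ = w * (c * hW a w * c⁻¹) * w⁻¹ := by group
      _ = _ := e1
  have := congrArg (·⁻¹) e2
  simpa [mul_assoc] using this

omit R in
theorem ne_pow (n : ℕ) : D.ζ ^ n ≠ 0 := pow_ne_zero n D.ne

/-- The scalings of the families which are needed. -/
theorem scalings :
    (Sc a (cf c (par D R)) (D.ζ ^ 2)⁻¹ ∧ Sc (hW a w) (cf c (par D R)) D.ζ⁻¹) ∧
    (Sc a (cf w (par D R)) D.ζ⁻¹ ∧ Sc (hW a w) (cf w (par D R)) (D.ζ ^ 2)⁻¹) ∧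
    (Sc a (cf c (cf c (cf w (par D R)))) D.ζ⁻¹ ∧ Sc (hW a w) (cf c (cf c (cf w (par D R)))) D.ζ) := by
  have hz : D.ζ ≠ 0 := D.ne
  have A := sc_a_01 R
  have B := sc_h_01 R
  have Bi := B.inv ((ne_pow (D := D) 2))
  have e : (D.ζ ^ 2)⁻¹ * D.ζ = D.ζ⁻¹ := by field_simp
  have a10 : Sc a (cf w (par D R)) D.ζ⁻¹ := Sc.cf (by rw [waw' R, ← e]; exact Bi.mul A)
  have h10 : Sc (hW a w) (cf w (par D R)) (D.ζ ^ 2)⁻¹ := Sc.cf (by rw [whw' R]; exact Bi)
  have h10i : Sc (hW a w)⁻¹ (cf w (par D R)) (D.ζ ^ 2) := by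
    simpa using h10.inv (inv_ne_zero ((ne_pow (D := D) 2)))
  have a21 : Sc a (cf c (cf w (par D R))) (D.ζ ^ 2) := Sc.cf (by rw [cac R]; exact h10i)
  have h21 : Sc (hW a w) (cf c (cf w (par D R))) D.ζ := by
    refine Sc.cf ?_
    rw [chc R, show D.ζ = D.ζ ^ 2 * D.ζ⁻¹ by field_simp]
    simpa using h10i.mul a10
  refine ⟨⟨Sc.cf (by rw [cac R]; exact Bi), Sc.cf (by rw [chc R, ← e]; exact Bi.mul A)⟩, ⟨a10, h10⟩,
    Sc.cf (by rw [cac R]; exact h21.inv hz), Sc.cf ?_⟩
  rw [chc R, show D.ζ = D.ζ⁻¹ * D.ζ ^ 2 by field_simp]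
  simpa using (h21.inv hz).mul a21

end Cfsg.Agent.SL3Pres
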