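import Cfsg.Agent.Lib.SL2.PresData

/-!
# The relations of a short presentation of `SL₃`

Four elements: `u` a transvection, `a` a diagonal element, `c` a monomial three-cycle and `w` a monomial
transposition; `h` abbreviates the commutator of `a` and `w`.
-/

set_option autoImplicit false

namespace Cfsg.Agent.SL3Pres

open Polynomial Cfsg.Agent.SL2Pres
open scoped commutatorElement

/-- The choices in the field. -/
structure Dat (p : ℕ) [Fact p.Prime] (F : Type*) [Field F] [Algebra (ZMod p) F] where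
  ζ : F
  ne : ζ ≠ 0
  gen : ∀ t : F, t ≠ 0 → ∃ k : ℕ, ζ ^ k = t
  m : (ZMod p)[X]
  monic : m.Monic
  deg_pos : 0 < m.natDegree
  eval_m : aeval ζ m = 0
  ker : ∀ f : (ZMod p)[X], aeval ζ f = 0 → m ∣ f
  surj : ∀ t : F, ∃ f : (ZMod p)[X], aeval ζ f = t
  k : ℕ
  neg : ζ ^ k = -1
  j : ℕ
  spread : m.natDegree ≤ 2 ∨ ζ ^ j = 1 + ζ
  /-- The exponents of the commutator relations. -/
  ns : List ℕ
  /-- Either the commutators are given on representatives of all classes, or cubes span. -/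
  good : (∀ t : F, t ≠ 0 → ∃ n : ℕ, ∃ i ∈ ns, ζ ^ (3 * n + i) = t) ∨
    ns = [0] ∧ ∀ t : F, ∃ f : (ZMod p)[X], aeval (ζ ^ 3) f = t

variable {p : ℕ} [Fact p.Prime] {F : Type*} [Field F] [Algebra (ZMod p) F] {H : Type*} [Group H]

/-- The torus element made of `a` and `w`. -/
def hW (a w : H) : H := a * w * a⁻¹ * w⁻¹

/-- The transvection of the second simple root. -/
def x12W (u a c : H) (i : ℕ) : H := c * (cjN a u i)⁻¹ * c⁻¹

/-- The transvection of the highest root. -/
def x02W (u a c w : H) (i : ℕ) : H := c * c * (w * (cjN a u i)⁻¹ * w⁻¹) * (c * c)⁻¹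

/-- The spreading relator. -/
noncomputable def spreadR (D : Dat p F) (u a : H) : H :=
  if D.m.natDegree ≤ 2 then 1 else a ^ D.j * u * (a ^ D.j)⁻¹ * (u * cjN a u 1)⁻¹

/-- The relators common to all fields. -/
noncomputable def baseL (D : Dat p F) (g : Fin 4 → H) : List H :=
  [g 0 ^ p, ⁅g 0, cjN (g 1) (g 0) 1⁆, spreadR D (g 0) (g 1), pw (g 1) (g 0) D.m,
    ⁅hW (g 1) (g 3) * (g 1 ^ 2)⁻¹, g 0⁆, ⁅hW (g 1) (g 3), g 1⁆, g 2 * hW (g 1) (g 3) * (g 2)⁻¹ * g 1,
    g 2 ^ 3, g 3 * (g 2 * g 3 * (g 2)⁻¹) * (g 2)⁻¹, g 3 * g 3 * (hW (g 1) (g 3) ^ D.k)⁻¹,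
    g 0 * (g 3 * g 0 * (g 3)⁻¹) * g 0 * (g 3)⁻¹]

/-- The relators for the commutator of the simple root groups. -/
noncomputable def commL (D : Dat p F) (g : Fin 4 → H) : List H :=
  D.ns.map fun i => ⁅g 0, x12W (g 0) (g 1) (g 2) i⁆ * (x02W (g 0) (g 1) (g 2) (g 3) i)⁻¹

/-- The relators which make the highest root group commute with the simple ones. -/
noncomputable def centL (D : Dat p F) (g : Fin 4 → H) : List H :=
  if D.ns = [0] then [⁅g 0, x02W (g 0) (g 1) (g 2) (g 3) 0⁆,
    ⁅x12W (g 0) (g 1) (g 2) 0, x02W (g 0) (g 1) (g 2) (g 3) 0⁆] else []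

/-- All relators. -/
noncomputable def relL (D : Dat p F) (g : Fin 4 → H) : List H := baseL D g ++ commL D g ++ centL D g

theorem map_relL {K : Type*} [Group K] (f : H →* K) (D : Dat p F) (g : Fin 4 → H) :
    (relL D g).map f = relL D (f ∘ g) := by
  have h1 : f (spreadR D (g 0) (g 1)) = spreadR D (f (g 0)) (f (g 1)) := by
    simp only [spreadR]; split_ifs <;> simp [cjN]
  have h2 : (centL D g).map f = centL D (f ∘ g) := by
    simp only [centL]; split_ifs <;> simp [x12W, x02W, cjN, map_commutatorElement]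
  simp only [relL, List.map_append, h2]
  congr 1
  congr 1
  · simp [baseL, h1, map_pw, hW, cjN, map_commutatorElement]
  · simp [commL, x12W, x02W, cjN, map_commutatorElement, List.map_map, Function.comp_def]

theorem length_relL_le (D : Dat p F) (g : Fin 4 → H)
    (h : D.ns = [0] ∨ D.ns.length ≤ 3) : (relL D g).length ≤ 14 := by
  simp only [relL, List.length_append, commL, List.length_map, centL, baseL, List.length_cons, List.length_nil]
  split_ifs with h0
  · rw [h0]; simp
  · rcases h with h | h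
    · exact absurd h h0
    · simp; omega

/-- The relations, as equations. -/
structure Holds (D : Dat p F) (u a c w : H) : Prop where
  pow_u : u ^ p = 1
  comm : Commute u (cjN a u 1)
  spread : D.m.natDegree ≤ 2 ∨ a ^ D.j * u * (a ^ D.j)⁻¹ = u * cjN a u 1
  rel_m : pw a u D.m = 1
  h_u : Commute (hW a w * (a ^ 2)⁻¹) u
  h_a : Commute (hW a w) a
  link : c * hW a w * c⁻¹ = a⁻¹
  cube : c ^ 3 = 1
  cw : w * (c * w * c⁻¹) = c
  sq : w * w = hW a w ^ D.k
  one : u * (w * u * w⁻¹) * u = w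
  comm1 : ∀ i ∈ D.ns, ⁅u, x12W u a c i⁆ = x02W u a c w i
  cent : D.ns = [0] → Commute u (x02W u a c w 0) ∧ Commute (x12W u a c 0) (x02W u a c w 0)

theorem holds_of_relL (D : Dat p F) (g : Fin 4 → H) (h : ∀ r ∈ relL D g, r = 1) :
    Holds D (g 0) (g 1) (g 2) (g 3) := by
  simp only [relL, List.mem_append, or_imp, forall_and] at h
  obtain ⟨⟨hb, hc⟩, hz⟩ := h
  simp only [baseL, List.mem_cons, List.not_mem_nil, or_false, forall_eq_or_imp, forall_eq] at hb
  obtain ⟨e1, e2, e3, e4, e5, e6, e7, e8, e9, e10, e11⟩ := hb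
  refine ⟨e1, commutatorElement_eq_one_iff_commute.1 e2, ?_, e4, commutatorElement_eq_one_iff_commute.1 e5,
    commutatorElement_eq_one_iff_commute.1 e6, eq_inv_of_mul_eq_one_left e7, e8, mul_inv_eq_one.1 e9,
    mul_inv_eq_one.1 e10, mul_inv_eq_one.1 e11, fun i hi => ?_, fun h0 => ?_⟩
  · by_cases hd : D.m.natDegree ≤ 2
    · exact Or.inl hd
    · rw [spreadR, if_neg hd] at e3
      exact Or.inr (mul_inv_eq_one.1 e3)
  · exact mul_inv_eq_one.1 (hc _ (List.mem_map.2 ⟨i, hi, rfl⟩))
  · simp only [centL, if_pos h0, List.mem_cons, List.not_mem_nil, or_false, forall_eq_or_imp, forall_eq,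
      commutatorElement_eq_one_iff_commute] at hz
    exact hz

theorem relL_of_holds (D : Dat p F) (g : Fin 4 → H) (R : Holds D (g 0) (g 1) (g 2) (g 3)) :
    ∀ r ∈ relL D g, r = 1 := by
  simp only [relL, List.mem_append, or_imp, forall_and]
  refine ⟨⟨?_, fun r hr => ?_⟩, ?_⟩
  · simp only [baseL, List.mem_cons, List.not_mem_nil, or_false, forall_eq_or_imp, forall_eq,
      commutatorElement_eq_one_iff_commute, mul_inv_eq_one]
    refine ⟨R.pow_u, R.comm, ?_, R.rel_m, R.h_u, R.h_a, ?_, R.cube, R.cw, R.sq, R.one⟩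
    · simp only [spreadR]
      split_ifs with hd
      · rfl
      · exact mul_inv_eq_one.2 (R.spread.resolve_left hd)
    · rw [R.link, inv_mul_cancel]
  · obtain ⟨i, hi, rfl⟩ := List.mem_map.1 hr
    exact mul_inv_eq_one.2 (R.comm1 i hi)
  · simp only [centL]
    split_ifs with h0
    · simp only [List.mem_cons, List.not_mem_nil, or_false, forall_eq_or_imp, forall_eq,
        commutatorElement_eq_one_iff_commute]
      exact R.cent h0
    · simp

end Cfsg.Agent.SL3Pres
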